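import Cfsg.Agent.Screen.CosetEnum.OrderGlue
import Cfsg.Agent.Screen.CosetEnum.PresHe
import Cfsg.Agent.Screen.CosetEnum.HeOrd.HeT.Checked
import Cfsg.Agent.Screen.CosetEnum.Linked
import Cfsg.Agent.Screen.CosetEnum.HeOrd.Derived
import Cfsg.Agent.Screen.CosetEnum.HeOrd.HeL1.Checked
import Cfsg.Agent.Screen.CosetEnum.HeOrd.HeL0.Checked

/-!
# An upper bound on the order
-/

set_option autoImplicit false
set_option maxRecDepth 20000

namespace Cfsg.Agent.Screen.CosetEnum.HeOrd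

open Cfsg.Agent.Screen.CosetEnum

/-- Local to global numbering. -/
def mHeL1 : ℕ → ℕ
  | 0 => 2
  | 1 => 3
  | 2 => 4
  | 3 => 5
  | 4 => 6
  | _ => 7

/-- Local to global numbering. -/
def mHeL0 : ℕ → ℕ
  | 0 => 2
  | 1 => 3
  | 2 => 4
  | _ => 7

/-- Local to global numbering. -/
def mHeX : ℕ → ℕ
  | 0 => 0
  | 1 => 1
  | 2 => 2
  | 3 => 3
  | 4 => 4
  | 5 => 5
  | 6 => 6
  | _ => 7

theorem rels_hold {ws : List (List ℕ)} (m : ℕ → ℕ)
    (h : ws.all (fun w => decide (w.map m ∈ PresHe.relList ++ Derived.words)) = true) :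
    ∀ w ∈ ws, evalW (fun x => PresHe.gens (m x)) w = 1 := fun w hw => by
  rw [evalW_map]
  rcases List.mem_append.1 (of_decide_eq_true (List.all_eq_true.1 h w hw)) with hm | hm
  · exact PresHe.gens_rels _ hm
  · exact Derived.words_hold _ hm

/-- Order bound. -/
theorem finite_and_card_le : Finite Cfsg.Spor.He ∧ Nat.card Cfsg.Spor.He ≤ 4030387200 := by
  obtain ⟨f0, b0⟩ := HeL0.checked.card_le (fun x => PresHe.gens (mHeL0 x)) (fun x => PresHe.gens_sq _)
    (PresHe.gens_out _ (by decide)) (rels_hold mHeL0 (by decide +kernel))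
    (Subgroup.closure {g | ∃ x < HeL0.tbl.ng, g = PresHe.gens (mHeL0 x)}) ⊥ rfl (closure_nil (fun x => PresHe.gens (mHeL0 x))) inferInstance
  rw [Subgroup.card_bot] at b0
  obtain ⟨f1, b1⟩ := HeL1.checked.card_le (fun x => PresHe.gens (mHeL1 x)) (fun x => PresHe.gens_sq _)
    (PresHe.gens_out _ (by decide)) (rels_hold mHeL1 (by decide +kernel))
    (Subgroup.closure {g | ∃ x < HeL1.tbl.ng, g = PresHe.gens (mHeL1 x)}) _ rfl
    (closure_chain PresHe.gens mHeL0 mHeL1 HeL0.tbl.ng HeL1.tbl.subs (by decide +kernel)).symm f0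
  obtain ⟨fT, bT⟩ := HeOrd.HeT.linked.card_le PresHe.gens PresHe.gens_sq (PresHe.gens_out _ (by decide))
    PresHe.gens_rels ⊤ _ (closure_top PresHe.gens HeOrd.HeT.tbl.ng PresHe.gens_out PresHe.gens_top)
    (closure_chain PresHe.gens mHeL1 (fun x => x) HeL1.tbl.ng HeOrd.HeT.tbl.subs (by decide +kernel)).symm f1
  haveI := fT
  refine ⟨Finite.of_equiv _ Subgroup.topEquiv.toEquiv, ?_⟩
  rw [Subgroup.card_top] at bT
  rw [show HeL0.tbl.n = 120 from rfl] at b0
  rw [show HeL1.tbl.n = 672 from rfl] at b1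
  rw [show HeOrd.HeT.tbl.n = 49980 from rfl] at bT
  omega

end Cfsg.Agent.Screen.CosetEnum.HeOrd
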